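/-
The Bruhat decomposition of the antidiagonal model of `SU₃`, in coordinates.
-/
import Cfsg.Agent.Lib.Amalgams.UnitaryThree

set_option autoImplicit false
set_option linter.unusedSectionVars false

open Matrix
open scoped MatrixGroups
open CfsgLib.Amalgams

namespace CfsgLib.SU3Pres

variable {F : Type*} [Field F] [Finite F] {σ : F →+* F} {q : ℕ} (h : UniField F σ q)

local notation "M₃" => Matrix (Fin 3) (Fin 3) F

/-- Parameters of the upper unipotent elements. -/
abbrev Tp (σ : F →+* F) := {p : F × F // p.2 + σ p.2 + p.1 * σ p.1 = 0}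

include h

theorem tp_snd_ne (t : Tp σ) (ht : t.1 ≠ 0) : t.1.2 ≠ 0 := by
  intro hc
  have h1 := t.2
  rw [hc, map_zero, zero_add, zero_add] at h1
  refine ht (Prod.ext ?_ hc)
  rcases mul_eq_zero.1 h1 with e | e
  · exact e
  · exact σ.injective (e.trans (map_zero σ).symm)

/-- The upper unipotent element with given parameters. -/
noncomputable def uT (t : Tp σ) : suAnti σ := uEl₃ h.conj_conj t.1.1 t.1.2 t.2

theorem mat_uT (t : Tp σ) : mat₃ σ (uT h t) = uMat₃ σ t.1.1 t.1.2 := rfl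

theorem uT_injective : Function.Injective (uT h) := fun t t' e => by
  have e' := congrArg (mat₃ σ) e
  rw [mat_uT, mat_uT] at e'
  have h1 := congrFun (congrFun e' 1) 2
  have h2 := congrFun (congrFun e' 0) 2
  exact Subtype.ext (Prod.ext (by simpa [uMat₃] using h1) (by simpa [uMat₃] using h2))

/-- The product of two parameters. -/
def tmul (t t' : Tp σ) : Tp σ :=
  ⟨(t.1.1 + t'.1.1, t.1.2 + t'.1.2 - σ t.1.1 * t'.1.1), by
    simp only [map_add, map_sub, map_mul, h.conj_conj]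
    linear_combination t.2 + t'.2⟩

theorem uT_mul (t t' : Tp σ) : uT h t * uT h t' = uT h (tmul h t t') := by
  apply mat₃_injective σ
  rw [map_mul, mat_uT, mat_uT, mat_uT]
  ext i j
  fin_cases i <;> fin_cases j <;>
    simp [uMat₃, tmul, Matrix.mul_apply, Fin.sum_univ_three] <;> ring

/-- The inverse of a parameter. -/
def tinv (t : Tp σ) : Tp σ :=
  ⟨(-t.1.1, σ t.1.2), by
    simp only [map_neg, h.conj_conj]
    linear_combination t.2⟩

theorem uT_tinv (t : Tp σ) : uT h (tinv h t) = (uT h t)⁻¹ := by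
  refine eq_inv_of_mul_eq_one_right ?_
  apply mat₃_injective σ
  rw [map_mul, mat_uT, mat_uT, map_one]
  ext i j
  fin_cases i <;> fin_cases j <;>
    simp [uMat₃, tinv, Matrix.mul_apply, Fin.sum_univ_three]
  linear_combination t.2

/-- The central parameters. -/
def zP (k : F) (hk : σ k = -k) : Tp σ := ⟨(0, k), by simp [hk]⟩

omit h

/-- Conjugation on units. -/
abbrev sU (σ : F →+* F) : Fˣ →* Fˣ := Units.map σ.toMonoidHom

/-- The matrix of a torus element. -/
def dMat₃ (σ : F →+* F) (l : Fˣ) : M₃ :=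
  !![(l : F), 0, 0; 0, σ l / (l : F), 0; 0, 0, (σ (l : F))⁻¹]

include h

/-- The torus. -/
noncomputable def dT : Fˣ →* suAnti σ where
  toFun l := ⟨⟨dMat₃ σ l, by
      have h1 : σ (l : F) ≠ 0 := by simp
      simp [dMat₃, Matrix.det_fin_three]
      field_simp⟩, by
    refine mem_suAnti.2 ?_
    show (dMat₃ σ l)ᵀ * antiForm * (dMat₃ σ l).map σ = antiForm
    have h1 : σ (l : F) ≠ 0 := by simp
    ext i j
    fin_cases i <;> fin_cases j <;>
      simp [dMat₃, antiForm, Matrix.mul_apply, Fin.sum_univ_three, h.conj_conj] <;> field_simp⟩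
  map_one' := by
    apply mat₃_injective σ
    show dMat₃ σ 1 = mat₃ σ 1
    rw [map_one]
    ext i j
    fin_cases i <;> fin_cases j <;> simp [dMat₃]
  map_mul' l l' := by
    apply mat₃_injective σ
    show dMat₃ σ (l * l') = dMat₃ σ l * dMat₃ σ l'
    ext i j
    fin_cases i <;> fin_cases j <;>
      simp [dMat₃, Matrix.mul_apply, Fin.sum_univ_three] <;> field_simp

theorem mat_dT (l : Fˣ) : mat₃ σ (dT h l) = dMat₃ σ l := rfl

theorem dT_injective : Function.Injective (dT h) := fun l l' e => by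
  have e' := congrFun (congrFun (congrArg (mat₃ σ) e) 0) 0
  rw [mat_dT, mat_dT] at e'
  exact Units.ext (by simpa [dMat₃] using e')

omit h

/-- The character of the torus on the short root. -/
def muF (σ : F →+* F) (l : Fˣ) : F := σ (l : F) ^ 2 / (l : F)

/-- The character of the torus on the long root. -/
def nuF (σ : F →+* F) (l : Fˣ) : F := (l : F) * σ (l : F)

include h

/-- The action of the torus on parameters. -/
def tact (l : Fˣ) (t : Tp σ) : Tp σ :=
  ⟨(muF σ l * t.1.1, nuF σ l * t.1.2), by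
    have h0 : (l : F) ≠ 0 := l.ne_zero
    have h1 : σ (l : F) ≠ 0 := by simp
    simp only [muF, nuF, map_mul, map_div₀, map_pow, h.conj_conj]
    field_simp
    linear_combination ((l : F) * σ l) * t.2⟩

theorem dT_uT (l : Fˣ) (t : Tp σ) : dT h l * uT h t * (dT h l)⁻¹ = uT h (tact h l t) := by
  rw [mul_inv_eq_iff_eq_mul]
  apply mat₃_injective σ
  rw [map_mul, map_mul, mat_uT, mat_uT, mat_dT]
  have h0 : (l : F) ≠ 0 := l.ne_zero
  have h1 : σ (l : F) ≠ 0 := by simp
  ext i j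
  fin_cases i <;> fin_cases j <;>
    simp [uMat₃, dMat₃, tact, muF, nuF, Matrix.mul_apply, Fin.sum_univ_three, h.conj_conj] <;>
    field_simp
  all_goals exact div_eq_inv_mul _ _

theorem w_mul_w : wEl₃ σ * wEl₃ σ = 1 := by
  apply mat₃_injective σ
  rw [map_mul, mat₃_wEl, map_one]
  ext i j
  fin_cases i <;> fin_cases j <;> simp [wMat₃, Matrix.mul_apply, Fin.sum_univ_three]

theorem w_dT_w (l : Fˣ) : wEl₃ σ * dT h l * wEl₃ σ = dT h (sU σ l)⁻¹ := by
  apply mat₃_injective σ
  rw [map_mul, map_mul, mat₃_wEl, mat_dT, mat_dT]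
  have h0 : (l : F) ≠ 0 := l.ne_zero
  have h1 : σ (l : F) ≠ 0 := by simp
  ext i j
  fin_cases i <;> fin_cases j <;>
    simp [wMat₃, dMat₃, Matrix.mul_apply, Fin.sum_univ_three, h.conj_conj]
  exact div_eq_inv_mul _ _

/-- The first parameter of the Bruhat decomposition of a lower element. -/
def tal (t : Tp σ) : Tp σ :=
  ⟨(-t.1.1 / t.1.2, 1 / t.1.2), by
    have := h.conj_conj
    by_cases hc : t.1.2 = 0
    · simp [hc]
    have h1 : σ t.1.2 ≠ 0 := by simp [hc]
    simp only [map_div₀, map_neg, map_one]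
    field_simp
    linear_combination t.2⟩

/-- The second parameter of the Bruhat decomposition of a lower element. -/
def tbe (t : Tp σ) : Tp σ :=
  ⟨(-t.1.1 / σ t.1.2, 1 / t.1.2), by
    have := h.conj_conj
    by_cases hc : t.1.2 = 0
    · simp [hc]
    have h1 : σ t.1.2 ≠ 0 := by simp [hc]
    simp only [map_div₀, map_neg, map_one, h.conj_conj]
    field_simp
    linear_combination t.2⟩

theorem w_uT_w (t : Tp σ) (hc : t.1.2 ≠ 0) :
    wEl₃ σ * uT h t * wEl₃ σ =
      uT h (tal h t) * dT h (sU σ (Units.mk0 t.1.2 hc))⁻¹ * wEl₃ σ * uT h (tbe h t) := by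
  apply mat₃_injective σ
  simp only [map_mul, mat₃_wEl, mat_uT, mat_dT]
  have h1 : σ t.1.2 ≠ 0 := by simp [hc]
  have h2 := t.2
  ext i j
  fin_cases i <;> fin_cases j <;>
    simp [uMat₃, wMat₃, dMat₃, tal, tbe, Matrix.mul_apply, Fin.sum_univ_three, h.conj_conj] <;>
    field_simp
  all_goals first | linear_combination h2 | linear_combination -h2 | linear_combination (0 : F) * h2

theorem tbe_tal (t t' : Tp σ) (hc : t.1.2 ≠ 0) (hc' : t'.1.2 ≠ 0) :
    (tmul h (tbe h t) (tal h t')).1.1 = -t.1.1 / σ t.1.2 + -t'.1.1 / t'.1.2 ∧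
      (tmul h (tbe h t) (tal h t')).1.2 = (tmul h t t').1.2 / (t.1.2 * t'.1.2) := by
  refine ⟨rfl, ?_⟩
  have h1 : σ t.1.2 ≠ 0 := by simp [hc]
  simp only [tmul, tbe, tal, map_div₀, map_neg, h.conj_conj]
  field_simp
  ring

omit h

/-- The upper triangular elements. -/
noncomputable def Bor (σ : F →+* F) : Subgroup (suAnti σ) where
  carrier := {g | mat₃ σ g 1 0 = 0 ∧ mat₃ σ g 2 0 = 0 ∧ mat₃ σ g 2 1 = 0}
  one_mem' := by simp
  mul_mem' {a b} ha hb := by
    obtain ⟨a1, a2, a3⟩ := ha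
    obtain ⟨b1, b2, b3⟩ := hb
    simp [Matrix.mul_apply, Fin.sum_univ_three, a1, a2, a3, b1, b2, b3]
  inv_mem' {a} ha := by
    obtain ⟨m, hm⟩ : ∃ m : ℕ, a ^ m = a⁻¹ :=
      (mem_powers_iff_mem_zpowers.2 (inv_mem (Subgroup.mem_zpowers a)) : a⁻¹ ∈ Submonoid.powers a)
    rw [← hm]
    clear hm
    induction m with
    | zero => simp
    | succ m ih =>
      obtain ⟨a1, a2, a3⟩ := ha
      obtain ⟨b1, b2, b3⟩ := ih
      simp only [map_pow] at b1 b2 b3
      simp [pow_succ, Matrix.mul_apply, Fin.sum_univ_three, a1, a2, a3, b1, b2, b3]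

theorem mem_Bor {g : suAnti σ} :
    g ∈ Bor σ ↔ mat₃ σ g 1 0 = 0 ∧ mat₃ σ g 2 0 = 0 ∧ mat₃ σ g 2 1 = 0 := Iff.rfl

include h

theorem uT_mem_Bor (t : Tp σ) : uT h t ∈ Bor σ := by simp [mem_Bor, mat_uT, uMat₃]

theorem dT_mem_Bor (l : Fˣ) : dT h l ∈ Bor σ := by simp [mem_Bor, mat_dT, dMat₃]

theorem form_entry (g : suAnti σ) (i j : Fin 3) :
    ((mat₃ σ g)ᵀ * antiForm * (mat₃ σ g).map σ : M₃) i j = (antiForm : M₃) i j := by
  rw [show (mat₃ σ g)ᵀ * antiForm * (mat₃ σ g).map σ = antiForm from g.2]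

theorem exists_ud {g : suAnti σ} (hg : g ∈ Bor σ) : ∃ t l, g = uT h t * dT h l := by
  obtain ⟨h10, h20, h21⟩ := hg
  have e02 := form_entry h g 0 2
  have e12 := form_entry h g 1 2
  have e22 := form_entry h g 2 2
  have hd : (mat₃ σ g).det = 1 := (g : SL(3, F)).2
  simp [antiForm, Matrix.mul_apply, Fin.sum_univ_three, h10, h20, h21] at e02 e12 e22
  simp [Matrix.det_fin_three, h10, h20, h21] at hd
  set a := mat₃ σ g
  have a00 : a 0 0 ≠ 0 := fun e => by simp [e] at hd
  have a22 : a 2 2 ≠ 0 := fun e => by simp [e] at hd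
  have s22 : σ (a 2 2) ≠ 0 := by simp [a22]
  have s00 : σ (a 0 0) ≠ 0 := by simp [a00]
  have i22 : (σ (a 0 0))⁻¹ = a 2 2 := by
    refine inv_eq_of_mul_eq_one_right ?_
    have := congrArg σ e02
    rwa [map_mul, h.conj_conj, map_one] at this
  have i11 : a 1 1 = σ (a 0 0) / a 0 0 := by
    rw [eq_div_iff a00]
    rw [← i22] at hd
    field_simp at hd
    linear_combination hd
  refine ⟨⟨(a 1 2 / a 2 2, a 0 2 / a 2 2), ?_⟩, Units.mk0 _ a00, ?_⟩
  · simp only [map_div₀]
    field_simp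
    linear_combination e22
  apply mat₃_injective σ
  rw [map_mul, mat_uT, mat_dT]
  ext i j
  fin_cases i <;> fin_cases j <;>
    simp [uMat₃, dMat₃, Matrix.mul_apply, Fin.sum_univ_three, i22, ← i11, map_div₀] <;>
    first
    | exact h10
    | exact h20
    | exact h21
    | rfl
    | (field_simp; done)
    | (field_simp; linear_combination (0 : F) * e12)
    | (field_simp; linear_combination e12)
    | (field_simp; linear_combination -e12)

theorem exists_cell {g : suAnti σ} (hg : g ∉ Bor σ) : ∃ b ∈ Bor σ, ∃ t, g = b * wEl₃ σ * uT h t := by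
  have key : ∀ g : suAnti σ, mat₃ σ g 2 0 = 0 → g ∈ Bor σ := by
    intro g h20
    have e00 := form_entry h g 0 0
    have e01 := form_entry h g 0 1
    have hd : (mat₃ σ g).det = 1 := (g : SL(3, F)).2
    simp [antiForm, Matrix.mul_apply, Fin.sum_univ_three, h20] at e00 e01
    have h10 : mat₃ σ g 1 0 = 0 := e00
    simp [h10] at e01
    have h21 : mat₃ σ g 2 1 = 0 := by
      rcases e01 with e | e
      · simp [Matrix.det_fin_three, h20, h10, e] at hd
      · exact e
    exact ⟨h10, h20, h21⟩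
  have h20 : mat₃ σ g⁻¹ 2 0 ≠ 0 := fun e => hg (by simpa using inv_mem (key _ e))
  set a := mat₃ σ g⁻¹
  have e00 := form_entry h g⁻¹ 0 0
  simp [antiForm, Matrix.mul_apply, Fin.sum_univ_three] at e00
  let t : Tp σ := ⟨(a 1 0 / a 2 0, a 0 0 / a 2 0), by
    have : σ (a 2 0) ≠ 0 := by simp [h20]
    simp only [map_div₀]
    field_simp
    linear_combination e00⟩
  set b' := wEl₃ σ * (uT h t)⁻¹ * g⁻¹ with hb'
  have hb : b' ∈ Bor σ := by
    refine key _ ?_
    rw [hb', ← uT_tinv, map_mul, map_mul, mat₃_wEl, mat_uT]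
    have h2 := t.2
    simp only [t] at h2
    have : σ (a 2 0) ≠ 0 := by simp [h20]
    simp only [map_div₀] at h2
    field_simp at h2
    simp [t, tinv, wMat₃, uMat₃, Matrix.mul_apply, Fin.sum_univ_three]
    field_simp
    linear_combination h2
  refine ⟨b'⁻¹, inv_mem hb, tinv h t, ?_⟩
  rw [hb', uT_tinv]
  group

theorem cell_mat_ne {b : suAnti σ} (hb : b ∈ Bor σ) (t : Tp σ) :
    b * wEl₃ σ * uT h t ∉ Bor σ := by
  intro hc
  have hw : wEl₃ σ ∈ Bor σ := by
    have := mul_mem (mul_mem (inv_mem hb) hc) (inv_mem (uT_mem_Bor h t))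
    convert this using 1
    group
  simpa [mem_Bor, wMat₃] using hw

theorem cell_inj {b b' : suAnti σ} (hb : b ∈ Bor σ) (hb' : b' ∈ Bor σ) {t t' : Tp σ}
    (e : b * wEl₃ σ * uT h t = b' * wEl₃ σ * uT h t') : b = b' ∧ t = t' := by
  set s := tmul h t' (tinv h t)
  have hs : b'⁻¹ * b = wEl₃ σ * uT h s * (wEl₃ σ)⁻¹ := by
    rw [← uT_mul, uT_tinv]
    calc b'⁻¹ * b = b'⁻¹ * (b * wEl₃ σ * uT h t) * (uT h t)⁻¹ * (wEl₃ σ)⁻¹ := by group
      _ = _ := by rw [e]; group
  have hm : mat₃ σ (wEl₃ σ * uT h s * (wEl₃ σ)⁻¹) 2 0 = 0 := by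
    rw [← hs]; exact (mul_mem (inv_mem hb') hb).2.1
  rw [inv_eq_of_mul_eq_one_right (w_mul_w h), map_mul, map_mul, mat₃_wEl, mat_uT] at hm
  simp [wMat₃, uMat₃, Matrix.mul_apply, Fin.sum_univ_three] at hm
  have hs0 : s.1 = 0 := by
    by_contra hne
    exact tp_snd_ne h s hne hm
  have hu : uT h s = 1 := by
    apply mat₃_injective σ
    rw [mat_uT, map_one]
    ext i j
    fin_cases i <;> fin_cases j <;> simp [uMat₃, hs0]
  have hu' : uT h t' * (uT h t)⁻¹ = 1 := by rwa [← uT_tinv, uT_mul]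
  rw [hu, mul_one, mul_inv_cancel, inv_mul_eq_one] at hs
  exact ⟨hs.symm, uT_injective h (mul_inv_eq_one.1 hu').symm⟩

omit h

/-- The lower right block of a matrix. -/
def blk (M : M₃) : Matrix (Fin 2) (Fin 2) F := !![M 1 1, M 1 2; M 2 1, M 2 2]

/-- The upper triangular elements modulo the long root group. -/
noncomputable def rhoB (σ : F →+* F) : Bor σ →* Matrix (Fin 2) (Fin 2) F where
  toFun g := blk (mat₃ σ g.1)
  map_one' := by
    ext i j
    fin_cases i <;> fin_cases j <;> simp [blk]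
  map_mul' a b := by
    obtain ⟨a1, a2, a3⟩ := a.2
    obtain ⟨b1, b2, b3⟩ := b.2
    ext i j
    fin_cases i <;> fin_cases j <;>
      simp [blk, Matrix.mul_apply, Fin.sum_univ_three, Fin.sum_univ_two, a1, a2, a3, b1, b2, b3]

end CfsgLib.SU3Pres
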